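import Groth.Agent.An.H893.PSArc
import Mathlib.RingTheory.NoetherNormalization
import Mathlib.RingTheory.IntegralClosure.GoingDown
import Mathlib.RingTheory.DedekindDomain.IntegralClosure
import Mathlib.RingTheory.DedekindDomain.Dvr
import Mathlib.RingTheory.Ideal.GoingUp
import Mathlib.RingTheory.Polynomial.UniqueFactorization
import Mathlib.RingTheory.Polynomial.RationalRoot
import Mathlib.FieldTheory.Perfect
import Mathlib.FieldTheory.IsAlgClosed.Basic
import Mathlib.Algebra.MvPolynomial.Funext
import Mathlib.RingTheory.Jacobson.Ring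

/-!
# Formal curve selection

Let `k` be an algebraically closed field of characteristic zero, `B` a domain of finite type over
`k`, `f ≠ 0` in `B` and `b : B →ₐ[k] k` a rational point.  Then there is a formal arc
`B →ₐ[k] k⟦X⟧` through `b` on which `f` does not vanish identically.
-/

set_option autoImplicit false

namespace Groth.Agent.An.H893.Arc

open Polynomial

/-- Points with values in an algebraically closed field lift along integral maps. -/
theorem exists_algHom_lift {k B A : Type*} [Field k] [IsAlgClosed k] [CommRing B] [CommRing A]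
    [Algebra k B] [Algebra k A] (φ : B →ₐ[k] A) (hφ : φ.toRingHom.IsIntegral) (b : B →ₐ[k] k)
    (hb : ∀ c : B, φ c = 0 → b c = 0) : ∃ a : A →ₐ[k] k, ∀ c : B, a (φ c) = b c := by
  let _ : Algebra B A := φ.toRingHom.toAlgebra
  have hint : Algebra.IsIntegral B A := ⟨hφ⟩
  have hbp : (RingHom.ker b).IsPrime := RingHom.ker_isPrime b
  obtain ⟨Q, -, hQp, hQ⟩ := Ideal.exists_ideal_over_prime_of_isIntegral (S := A)
    (RingHom.ker b) ⊥ (fun c hc => hb c hc)
  have key : ∀ c : B, Ideal.Quotient.mk Q (φ c) = algebraMap k (A ⧸ Q) (b c) := by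
    intro c
    have h1 : c - algebraMap k B (b c) ∈ Ideal.comap (algebraMap B A) Q := by
      rw [hQ, RingHom.mem_ker, map_sub, AlgHom.commutes, Algebra.algebraMap_self, RingHom.id_apply,
        sub_self]
    have h2 : φ (c - algebraMap k B (b c)) ∈ Q := h1
    rw [map_sub, AlgHom.commutes] at h2
    exact Ideal.Quotient.eq.2 h2
  have hI : Algebra.IsIntegral k (A ⧸ Q) := by
    refine ⟨fun y => ?_⟩
    obtain ⟨x, rfl⟩ := Ideal.Quotient.mk_surjective y
    obtain ⟨p, hp, hpx⟩ := hφ x
    refine ⟨p.map b.toRingHom, hp.map _, ?_⟩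
    rw [eval₂_map]
    have : (algebraMap k (A ⧸ Q)).comp b.toRingHom = (Ideal.Quotient.mk Q).comp φ.toRingHom := by
      ext c
      exact (key c).symm
    rw [this, ← hom_eval₂, hpx, map_zero]
  have hbij := IsAlgClosed.algebraMap_bijective_of_isIntegral (k := k) (K := A ⧸ Q)
  let e : k ≃ₐ[k] (A ⧸ Q) := AlgEquiv.ofBijective (Algebra.ofId k (A ⧸ Q)) hbij
  refine ⟨(e.symm : (A ⧸ Q) →ₐ[k] k).comp (Ideal.Quotient.mkₐ k Q), fun c => ?_⟩
  change e.symm (Ideal.Quotient.mk Q (φ c)) = b c
  rw [key, AlgEquiv.symm_apply_eq]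
  rfl

theorem minpoly_coeff_zero_ne_zero {R B : Type*} [CommRing R] [Nontrivial R] [CommRing B]
    [IsDomain B] [Algebra R B] {x : B} (hx : IsIntegral R x) (h : x ≠ 0) :
    (minpoly R x).coeff 0 ≠ 0 := by
  intro h0
  have h1 := Polynomial.divX_mul_X_add (minpoly R x)
  rw [h0, map_zero, add_zero] at h1
  have hm : (minpoly R x).divX.Monic := by
    have := minpoly.monic hx
    rw [← h1] at this
    exact Polynomial.Monic.of_mul_monic_right Polynomial.monic_X this
  have h2 : Polynomial.aeval x (minpoly R x).divX = 0 := by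
    have := minpoly.aeval R x
    rw [← h1, map_mul, Polynomial.aeval_X] at this
    exact (mul_eq_zero.1 this).resolve_right h
  have h3 := minpoly.min R x hm h2
  have h4 := Polynomial.natDegree_le_natDegree h3
  have h5 : (minpoly R x).natDegree = (minpoly R x).divX.natDegree + 1 := by
    conv_lhs => rw [← h1]
    exact Polynomial.natDegree_mul_X hm.ne_zero
  omega

section curve

variable {k : Type*} [Field k] [IsAlgClosed k] [CharZero k]

/-- The case of a curve: `C` is a domain which is finite over a polynomial ring in one variable. -/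
theorem exists_arc_curve {C : Type*} [CommRing C] [IsDomain C] [Algebra k C] [Algebra k[X] C]
    [IsScalarTower k k[X] C] [Module.Finite k[X] C] [FaithfulSMul k[X] C]
    (f : C) (hf : f ≠ 0) (b : C →ₐ[k] k) (hb : b f = 0) :
    ∃ φ : C →ₐ[k] PowerSeries k, (∀ c, PowerSeries.constantCoeff (φ c) = b c) ∧ φ f ≠ 0 := by
  let K := FractionRing k[X]
  let L := FractionRing C
  let _ : Algebra K L := FractionRing.liftAlgebra k[X] L
  have hKL : IsScalarTower k[X] K L := FractionRing.isScalarTower_liftAlgebra k[X] L
  have hfd : FiniteDimensional K L := inferInstance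
  have hc0 : CharZero K := charZero_of_injective_algebraMap (IsFractionRing.injective k[X] K)
  have hsep : Algebra.IsSeparable K L := inferInstance
  let O := integralClosure k[X] L
  have hO : IsDedekindDomain O := integralClosure.isDedekindDomain k[X] K L
  have hint : Algebra.IsIntegral k[X] C := inferInstance
  -- the map from C to O
  have hmem : ∀ c : C, algebraMap C L c ∈ O := fun c =>
    (hint.isIntegral c).map (IsScalarTower.toAlgHom k[X] C L)
  let j0 : C →ₐ[k[X]] O := (IsScalarTower.toAlgHom k[X] C L).codRestrict O hmem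
  have hj0 : Function.Injective j0 := by
    intro a b hab
    have : algebraMap C L a = algebraMap C L b := congrArg Subtype.val hab
    exact IsFractionRing.injective C L this
  let j : C →ₐ[k] O := j0.restrictScalars k
  have hjint : j.toRingHom.IsIntegral := by
    intro y
    obtain ⟨p, hp, hpy⟩ := (Algebra.IsIntegral.isIntegral (R := k[X]) y)
    refine ⟨p.map (algebraMap k[X] C), hp.map _, ?_⟩
    rw [eval₂_map]
    have : j.toRingHom.comp (algebraMap k[X] C) = algebraMap k[X] O :=
      RingHom.ext fun x => j0.commutes x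
    rw [this]
    exact hpy
  obtain ⟨r0, hr0⟩ := exists_algHom_lift j hjint b (fun c hc => by
    have : c = 0 := hj0 (by rw [map_zero]; exact hc)
    rw [this, map_zero])
  -- localise at the kernel of r0
  have hN : (RingHom.ker r0).IsPrime := RingHom.ker_isPrime r0
  have hN0 : RingHom.ker r0 ≠ ⊥ := by
    intro h
    have h1 : j f ∈ RingHom.ker r0 := by
      rw [RingHom.mem_ker, hr0, hb]
    rw [h, Ideal.mem_bot] at h1
    exact hf (hj0 (by rw [map_zero]; exact h1))
  let V := Localization.AtPrime (RingHom.ker r0)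
  have hV : IsDiscreteValuationRing V :=
    IsLocalization.AtPrime.isDiscreteValuationRing_of_dedekind_domain O hN0 V
  let r : V →ₐ[k] k := IsLocalization.liftAlgHom (M := (RingHom.ker r0).primeCompl) (f := r0)
    (fun y => isUnit_iff_ne_zero.2 (fun h => y.2 (by rwa [SetLike.mem_coe, RingHom.mem_ker])))
  have hr : ∀ y : O, r (algebraMap O V y) = r0 y := fun y => by
    simp [r]
  obtain ⟨φ, hφ, hφr⟩ := PSArc.exists_embedding (k := k) (V := V) r
  refine ⟨(φ.comp (IsScalarTower.toAlgHom k O V)).comp j, fun c => ?_, ?_⟩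
  · change PowerSeries.constantCoeff (φ (algebraMap O V (j c))) = b c
    rw [hφr, hr, hr0]
  · change φ (algebraMap O V (j f)) ≠ 0
    intro h
    have h1 : algebraMap O V (j f) = 0 := hφ (by rw [map_zero]; exact h)
    have h2 : Function.Injective (algebraMap O V) :=
      IsLocalization.injective V (RingHom.ker r0).primeCompl_le_nonZeroDivisors
    have h3 : j f = 0 := h2 (by rw [map_zero]; exact h1)
    exact hf (hj0 (by rw [map_zero]; exact h3))

/-- **Formal curve selection**: on a domain `B` of finite type over an algebraically closed field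
`k` of characteristic zero, there is a formal arc through every rational point `b`, on which a
given nonzero `f` vanishing at `b` does not vanish identically. -/
theorem exists_arc {B : Type*} [CommRing B] [IsDomain B] [Algebra k B] [Algebra.FiniteType k B]
    (f : B) (hf : f ≠ 0) (b : B →ₐ[k] k) (hb : b f = 0) :
    ∃ φ : B →ₐ[k] PowerSeries k, (∀ c, PowerSeries.constantCoeff (φ c) = b c) ∧ φ f ≠ 0 := by
  obtain ⟨s, g, hginj, hgfin⟩ := exists_finite_inj_algHom_of_fg k B
  let R := MvPolynomial (Fin s) k
  let _ : Algebra R B := g.toRingHom.toAlgebra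
  have hfin : Module.Finite R B := hgfin
  have hint : Algebra.IsIntegral R B := inferInstance
  have hfs : FaithfulSMul R B := (faithfulSMul_iff_algebraMap_injective R B).2 hginj
  have hgd : Algebra.HasGoingDown R B := inferInstance
  -- the constant coefficient of the minimal polynomial of `f`
  obtain ⟨p0, hp0, u, hu⟩ : ∃ p0 : R, p0 ≠ 0 ∧ ∃ u : B, g p0 = f * u := by
    have hif : IsIntegral R f := hint.isIntegral f
    refine ⟨(minpoly R f).coeff 0, ?_, ?_⟩
    · exact minpoly_coeff_zero_ne_zero hif hf
    · have h1 := minpoly.aeval R f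
      rw [← Polynomial.divX_mul_X_add (minpoly R f)] at h1
      rw [map_add, map_mul, aeval_X, aeval_C] at h1
      refine ⟨- aeval f (minpoly R f).divX, ?_⟩
      have h2 : g ((minpoly R f).coeff 0) = algebraMap R B ((minpoly R f).coeff 0) := rfl
      rw [h2]
      linear_combination h1
  let c : Fin s → k := fun i => b (g (MvPolynomial.X i))
  have hc : ∀ q : R, b (g q) = MvPolynomial.aeval c q := by
    intro q
    have : b.comp g = MvPolynomial.aeval c := by
      ext i
      simp [c]
    exact DFunLike.congr_fun this q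
  have hcp0 : MvPolynomial.aeval c p0 = 0 := by
    rw [← hc, hu, map_mul, hb, zero_mul]
  obtain ⟨d, hd⟩ : ∃ d : Fin s → k, MvPolynomial.aeval d p0 ≠ 0 := by
    by_contra h
    push Not at h
    exact hp0 (MvPolynomial.funext (fun d => by
      have h1 : MvPolynomial.eval d p0 = 0 := h d
      rw [h1, map_zero]))
  -- the line through `c` and `d`
  let lam : R →ₐ[k] k[X] := MvPolynomial.aeval (fun i => C (c i) + X * C (d i - c i))
  have hlam : ∀ (q : R) (l : k), (lam q).eval l =
      MvPolynomial.aeval (fun i => c i + l * (d i - c i)) q := by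
    intro q l
    have h1 : (Polynomial.aeval l).comp lam
        = MvPolynomial.aeval (fun i => c i + l * (d i - c i)) := by
      ext i
      simp [lam]
    have h2 := DFunLike.congr_fun h1 q
    rw [AlgHom.comp_apply] at h2
    rw [← Polynomial.coe_aeval_eq_eval]
    exact h2
  have hlam0 : ∀ q : R, (lam q).eval 0 = MvPolynomial.aeval c q := by
    intro q
    rw [hlam]
    congr 2
    ext i
    ring
  have hlam1 : ∀ q : R, (lam q).eval 1 = MvPolynomial.aeval d q := by
    intro q
    rw [hlam]
    congr 2
    ext i
    ring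
  have hpp : (RingHom.ker lam).IsPrime := RingHom.ker_isPrime lam
  have hn : (RingHom.ker b).IsPrime := RingHom.ker_isPrime b
  have hle : RingHom.ker lam ≤ (RingHom.ker b).under R := by
    intro q hq
    rw [RingHom.mem_ker] at hq
    change b (g q) = 0
    rw [hc, ← hlam0, hq, eval_zero]
  obtain ⟨P, hPle, hPp, hPover⟩ := Ideal.exists_ideal_le_liesOver_of_le (p := RingHom.ker lam)
    (q := (RingHom.ker b).under R) (RingHom.ker b) hle
  have hPover' : ∀ q : R, g q ∈ P ↔ lam q = 0 := by
    intro q
    have := hPover.over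
    rw [← RingHom.mem_ker, this]
    rfl
  have hfP : f ∉ P := by
    intro h
    have h1 : g p0 ∈ P := by
      rw [hu]
      exact P.mul_mem_right _ h
    rw [hPover'] at h1
    apply hd
    rw [← hlam1, h1, eval_zero]
  obtain ⟨xi, hxi⟩ : ∃ xi : R, lam xi = X := by
    obtain ⟨i, hi⟩ : ∃ i, d i - c i ≠ 0 := by
      by_contra h
      push Not at h
      apply hd
      have : d = c := funext fun i => sub_eq_zero.1 (h i)
      rw [this, hcp0]
    refine ⟨MvPolynomial.C (d i - c i)⁻¹ * (MvPolynomial.X i - MvPolynomial.C (c i)), ?_⟩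
    have e1 : lam (MvPolynomial.X i) = C (c i) + X * C (d i - c i) := MvPolynomial.aeval_X _ i
    have e2 : ∀ y : k, lam (MvPolynomial.C y) = C y := fun y => lam.commutes y
    rw [map_mul, map_sub, e1, e2, e2, add_sub_cancel_left, mul_comm X, ← mul_assoc, ← C_mul,
      inv_mul_cancel₀ hi, C_1, one_mul]
  let sg : k[X] →ₐ[k] R := Polynomial.aeval xi
  have hsg : ∀ q, lam (sg q) = q := by
    intro q
    have : lam.comp sg = AlgHom.id k k[X] := by
      ext
      simp [sg, hxi]
    exact DFunLike.congr_fun this q
  let C' := B ⧸ P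
  let ψ : k[X] →ₐ[k] C' := ((Ideal.Quotient.mkₐ k P).comp g).comp sg
  have hψ : ∀ q : R, ψ (lam q) = Ideal.Quotient.mk P (g q) := by
    intro q
    change Ideal.Quotient.mk P (g (sg (lam q))) = _
    rw [Ideal.Quotient.eq, ← map_sub, hPover', map_sub, hsg, sub_self]
  have hψinj : Function.Injective ψ := by
    rw [injective_iff_map_eq_zero]
    intro q hq
    change Ideal.Quotient.mk P (g (sg q)) = 0 at hq
    rw [Ideal.Quotient.eq_zero_iff_mem, hPover', hsg] at hq
    exact hq
  have hψfin : ψ.toRingHom.Finite := by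
    have h1 : (ψ.toRingHom.comp lam.toRingHom).Finite := by
      have h2 : ψ.toRingHom.comp lam.toRingHom = (Ideal.Quotient.mk P).comp g.toRingHom := by
        apply RingHom.ext
        exact hψ
      rw [h2]
      exact RingHom.Finite.comp (RingHom.Finite.of_surjective _ Ideal.Quotient.mk_surjective) hgfin
    exact RingHom.Finite.of_comp_finite h1
  let _ : Algebra k[X] C' := ψ.toRingHom.toAlgebra
  have hst : IsScalarTower k k[X] C' := IsScalarTower.of_algebraMap_eq' ψ.comp_algebraMap.symm
  have hf1 : Module.Finite k[X] C' := hψfin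
  have hf2 : FaithfulSMul k[X] C' := (faithfulSMul_iff_algebraMap_injective k[X] C').2 hψinj
  let b' : C' →ₐ[k] k := Ideal.Quotient.liftₐ P b (fun a ha => hPle ha)
  obtain ⟨φ, hφ, hφf⟩ := exists_arc_curve (C := C') (Ideal.Quotient.mk P f)
    (fun h => hfP (Ideal.Quotient.eq_zero_iff_mem.1 h)) b' hb
  exact ⟨φ.comp (Ideal.Quotient.mkₐ k P), fun c => hφ _, hφf⟩

end curve

end Groth.Agent.An.H893.Arc
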