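import Mathlib.Topology.MetricSpace.Pseudo.Lemmas
import Mathlib.Topology.MetricSpace.Cauchy
import Mathlib.Topology.Instances.Real.Lemmas
import Mathlib.Topology.Algebra.Order.LiminfLimsup
import Mathlib.Order.Filter.AtTopBot.Basic
import Mathlib.Topology.Order.MonotoneConvergence
import Mathlib.Topology.UniformSpace.UniformConvergence
import Mathlib.Dynamics.FixedPoints.Topology

/-!
# Convergence of descent iterations

An abstract form of the convergence of the discrete gradient descent under a Lojasiewicz type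
inequality: if `κ * dist x (T x) ≤ h x - h (T x)` near `a`, `h a = 0`, and the fixed points of `T`
near `a` are zeros of `h`, then the iterates of `T` converge, near `a`, to a continuous retraction
onto the zero set of `h`.
-/

set_option autoImplicit false

namespace Groth.Agent.An.H893.Descent

open Filter Topology Set

variable {E : Type*} [MetricSpace E] [CompleteSpace E]

structure Data (T : E → E) (h : E → ℝ) (κ : ℝ) (a : E) (R : ℝ) : Prop where
  contT : Continuous T
  conth : Continuous h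
  nonneg : ∀ x, 0 ≤ h x
  kpos : 0 < κ
  ha : h a = 0
  desc : ∀ x, dist x a < R → κ * dist x (T x) ≤ h x - h (T x)
  fix : ∀ x, dist x a < R → T x = x → h x = 0

variable {T : E → E} {h : E → ℝ} {κ : ℝ} {a : E} {R : ℝ}

/-- The basin. -/
def W (h : E → ℝ) (κ : ℝ) (a : E) (R : ℝ) : Set E := {x | dist x a + h x / κ < R}

omit [CompleteSpace E] in
theorem isOpen_W (D : Data T h κ a R) (R' : ℝ) : IsOpen (W h κ a R') := by
  have h1 := D.conth
  exact isOpen_lt (by fun_prop) continuous_const

omit [CompleteSpace E] in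
theorem mem_W (D : Data T h κ a R) {R' : ℝ} (hR' : 0 < R') : a ∈ W h κ a R' := by
  simp [W, D.ha, hR']

omit [CompleteSpace E] in
theorem W_dist (D : Data T h κ a R) {R' : ℝ} {x : E} (hx : x ∈ W h κ a R') : dist x a < R' := by
  have h1 : 0 ≤ h x / κ := div_nonneg (D.nonneg x) D.kpos.le
  have h2 : dist x a + h x / κ < R' := hx
  linarith

omit [CompleteSpace E] in
theorem T_mem (D : Data T h κ a R) {R' : ℝ} (hR : R' ≤ R) {x : E} (hx : x ∈ W h κ a R') :
    T x ∈ W h κ a R' := by
  have h1 := D.desc x ((W_dist D hx).trans_le hR)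
  have hk := D.kpos
  have h2 : dist x (T x) ≤ (h x - h (T x)) / κ := by
    rw [le_div_iff₀ hk]
    linarith
  have h3 : dist x a + h x / κ < R' := hx
  have h4 : dist (T x) a ≤ dist x (T x) + dist x a := by
    rw [dist_comm x (T x)]
    exact dist_triangle _ _ _
  change dist (T x) a + h (T x) / κ < R'
  rw [sub_div] at h2
  linarith

omit [CompleteSpace E] in
theorem iter_mem (D : Data T h κ a R) {R' : ℝ} (hR : R' ≤ R) {x : E} (hx : x ∈ W h κ a R')
    (n : ℕ) : T^[n] x ∈ W h κ a R' := by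
  induction n with
  | zero => exact hx
  | succ n ih =>
    rw [Function.iterate_succ_apply']
    exact T_mem D hR ih

omit [CompleteSpace E] in
theorem dist_iter (D : Data T h κ a R) {x : E} (hx : x ∈ W h κ a R) (n : ℕ) :
    dist x (T^[n] x) ≤ (h x - h (T^[n] x)) / κ := by
  induction n with
  | zero => simp
  | succ n ih =>
    have h1 := iter_mem D le_rfl hx n
    have h2 := D.desc _ (W_dist D h1)
    have h3 : dist (T^[n] x) (T (T^[n] x)) ≤ (h (T^[n] x) - h (T (T^[n] x))) / κ := by
      rw [le_div_iff₀ D.kpos]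
      linarith
    rw [Function.iterate_succ_apply']
    have h4 := dist_triangle x (T^[n] x) (T (T^[n] x))
    have h5 : (h x - h (T (T^[n] x))) / κ = (h x - h (T^[n] x)) / κ +
      (h (T^[n] x) - h (T (T^[n] x))) / κ := by ring
    rw [h5]
    linarith

omit [CompleteSpace E] in
theorem dist_iter' (D : Data T h κ a R) {x : E} (hx : x ∈ W h κ a R) (n m : ℕ) (hnm : n ≤ m) :
    dist (T^[n] x) (T^[m] x) ≤ (h (T^[n] x) - h (T^[m] x)) / κ := by
  obtain ⟨d, rfl⟩ := Nat.exists_eq_add_of_le hnm
  have h1 := dist_iter D (iter_mem D le_rfl hx n) d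
  rwa [← Function.iterate_add_apply, add_comm d n] at h1

omit [CompleteSpace E] in
theorem antitone_h (D : Data T h κ a R) {x : E} (hx : x ∈ W h κ a R) :
    Antitone (fun n => h (T^[n] x)) := by
  intro n m hnm
  have h1 := dist_iter' D hx n m hnm
  have h2 : 0 ≤ (h (T^[n] x) - h (T^[m] x)) / κ := dist_nonneg.trans h1
  have h3 := D.kpos
  rw [le_div_iff₀ h3] at h2
  simp only
  linarith

theorem exists_limit (D : Data T h κ a R) {x : E} (hx : x ∈ W h κ a R) :
    ∃ y, Tendsto (fun n => T^[n] x) atTop (𝓝 y) := by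
  apply cauchySeq_tendsto_of_complete
  have hconv : ∃ l, Tendsto (fun n => h (T^[n] x)) atTop (𝓝 l) := by
    refine ⟨_, tendsto_atTop_ciInf (antitone_h D hx) ⟨0, ?_⟩⟩
    rintro _ ⟨n, rfl⟩
    exact D.nonneg _
  obtain ⟨l, hl⟩ := hconv
  have hc := hl.cauchySeq
  rw [Metric.cauchySeq_iff'] at hc ⊢
  intro ε hε
  obtain ⟨N, hN⟩ := hc (κ * ε) (mul_pos D.kpos hε)
  refine ⟨N, fun n hn => ?_⟩
  have h1 := hN n hn
  have h2 := dist_iter' D hx N n hn
  rw [Real.dist_eq, abs_sub_comm] at h1
  rw [dist_comm]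
  refine h2.trans_lt ?_
  rw [div_lt_iff₀ D.kpos]
  have h3 := (le_abs_self (h (T^[N] x) - h (T^[n] x))).trans_lt h1
  linarith

open Classical in
/-- The limit retraction. -/
noncomputable def rho (T : E → E) (x : E) : E :=
  if hx : ∃ y, Tendsto (fun n => T^[n] x) atTop (𝓝 y) then hx.choose else x

theorem tendsto_rho (D : Data T h κ a R) {x : E} (hx : x ∈ W h κ a R) :
    Tendsto (fun n => T^[n] x) atTop (𝓝 (rho T x)) := by
  have h1 := exists_limit D hx
  rw [rho, dif_pos h1]
  exact h1.choose_spec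

theorem dist_rho_iter (D : Data T h κ a R) {x : E} (hx : x ∈ W h κ a R) (n : ℕ) :
    dist (T^[n] x) (rho T x) ≤ h (T^[n] x) / κ := by
  have h1 : Tendsto (fun m => dist (T^[n] x) (T^[m] x)) atTop (𝓝 (dist (T^[n] x) (rho T x))) :=
    tendsto_const_nhds.dist (tendsto_rho D hx)
  refine le_of_tendsto h1 ?_
  filter_upwards [eventually_ge_atTop n] with m hm
  refine (dist_iter' D hx n m hm).trans ?_
  apply div_le_div_of_nonneg_right _ D.kpos.le
  have := D.nonneg (T^[m] x)
  linarith

theorem dist_rho (D : Data T h κ a R) {x : E} (hx : x ∈ W h κ a R) :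
    dist x (rho T x) ≤ h x / κ := dist_rho_iter D hx 0

theorem rho_mem (D : Data T h κ a R) {R' : ℝ} (hR : R' ≤ R) {x : E} (hx : x ∈ W h κ a R') :
    dist (rho T x) a < R' := by
  have hx' : x ∈ W h κ a R := lt_of_lt_of_le hx hR
  have h1 := dist_rho D hx'
  have h2 : dist x a + h x / κ < R' := hx
  have h3 := dist_triangle (rho T x) x a
  rw [dist_comm (rho T x) x] at h3
  linarith

theorem T_rho (D : Data T h κ a R) {x : E} (hx : x ∈ W h κ a R) : T (rho T x) = rho T x := by
  have h1 := tendsto_rho D hx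
  exact isFixedPt_of_tendsto_iterate h1 D.contT.continuousAt

theorem h_rho (D : Data T h κ a R) {x : E} (hx : x ∈ W h κ a R) : h (rho T x) = 0 :=
  D.fix _ (rho_mem D le_rfl hx) (T_rho D hx)

theorem rho_of_zero (D : Data T h κ a R) {x : E} (hx : dist x a < R) (h0 : h x = 0) :
    rho T x = x := by
  have hxW : x ∈ W h κ a R := by
    change dist x a + h x / κ < R
    rw [h0, zero_div, add_zero]
    exact hx
  have h1 := dist_rho D hxW
  rw [h0, zero_div] at h1
  exact (dist_le_zero.1 h1).symm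

theorem continuousOn_rho (D : Data T h κ a R) : ContinuousOn (rho T) (W h κ a R) := by
  rw [(isOpen_W D R).continuousOn_iff]
  intro x hx
  rw [Metric.continuousAt_iff']
  intro ε hε
  have h1 : Tendsto (fun n => h (T^[n] x)) atTop (𝓝 0) := by
    rw [← h_rho D hx]
    exact (D.conth.tendsto _).comp (tendsto_rho D hx)
  have hκε : 0 < κ * (ε / 3) := mul_pos D.kpos (by positivity)
  obtain ⟨n, hn⟩ := (h1.eventually_lt_const hκε).exists
  have hcT : Continuous (T^[n]) := D.contT.iterate n
  have e1 : ∀ᶠ y in 𝓝 x, h (T^[n] y) < κ * (ε / 3) :=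
    (D.conth.comp hcT).continuousAt.eventually_lt continuousAt_const hn
  have e2 : ∀ᶠ y in 𝓝 x, dist (T^[n] y) (T^[n] x) < ε / 3 :=
    (Metric.continuousAt_iff'.1 hcT.continuousAt) (ε / 3) (by positivity)
  have e3 : ∀ᶠ y in 𝓝 x, y ∈ W h κ a R := (isOpen_W D R).mem_nhds hx
  filter_upwards [e1, e2, e3] with y hy1 hy2 hy3
  have d1 : dist (T^[n] y) (rho T y) < ε / 3 := by
    refine (dist_rho_iter D hy3 n).trans_lt ?_
    rw [div_lt_iff₀ D.kpos]
    linarith
  have d2 : dist (T^[n] x) (rho T x) < ε / 3 := by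
    refine (dist_rho_iter D hx n).trans_lt ?_
    rw [div_lt_iff₀ D.kpos]
    linarith
  have d3 := dist_triangle4 (rho T y) (T^[n] y) (T^[n] x) (rho T x)
  rw [dist_comm (rho T y) (T^[n] y)] at d3
  linarith

/-- Local retraction onto the zero set of `h`. -/
theorem exists_retraction (D : Data T h κ a R) {V : Set E} (hV : V ∈ 𝓝 a) (hR : 0 < R) :
    ∃ W ∈ 𝓝 a, ∃ ρ : E → E, ContinuousOn ρ W ∧ (∀ x ∈ W, ρ x ∈ V ∧ h (ρ x) = 0) ∧
      ∀ x ∈ W, h x = 0 → ρ x = x := by
  obtain ⟨ε, hε, hεV⟩ := Metric.mem_nhds_iff.1 hV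
  have hm : 0 < min ε R := lt_min hε hR
  have hsub : W h κ a (min ε R) ⊆ W h κ a R := fun x hx =>
    show dist x a + h x / κ < R from lt_of_lt_of_le hx (min_le_right ε R)
  refine ⟨W h κ a (min ε R), (isOpen_W D _).mem_nhds (mem_W D hm), rho T,
    (continuousOn_rho D).mono hsub, fun x hx => ⟨hεV ?_, h_rho D (hsub hx)⟩, fun x hx h0 => ?_⟩
  · exact (rho_mem D (min_le_right _ _) hx).trans_le (min_le_left _ _)
  · exact rho_of_zero D (W_dist D (hsub hx)) h0

end Groth.Agent.An.H893.Descent
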