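import Groth.Agent.An.H893.Arc
import Mathlib.RingTheory.PowerSeries.Derivative
import Mathlib.Algebra.MvPolynomial.PDeriv
import Mathlib.RingTheory.Localization.Away.Basic
import Mathlib.RingTheory.Jacobson.Ring

/-!
# The algebraic core of the Lojasiewicz gradient inequality

For a nonzero polynomial `f` over an algebraically closed field `k` of characteristic zero, `f` is
a unit in the ring `k[x][∂₁f/f, …, ∂ₙf/f]`.
-/

set_option autoImplicit false

namespace Groth.Agent.An.H893.LojAlg

variable {k : Type*} [Field k]

theorem ps_eq_zero [CharZero k] (F h : PowerSeries k) (h0 : PowerSeries.constantCoeff F = 0)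
    (hF : PowerSeries.derivative k F = F * h) : F = 0 := by
  ext n
  rw [map_zero]
  induction n using Nat.strong_induction_on with
  | _ n ih =>
    cases n with
    | zero => simpa using h0
    | succ n =>
      have h1 : PowerSeries.coeff n (PowerSeries.derivative k F) = 0 := by
        rw [hF, PowerSeries.coeff_mul]
        apply Finset.sum_eq_zero
        intro p hp
        rw [Finset.mem_antidiagonal] at hp
        rw [ih p.1 (by omega), zero_mul]
      rw [PowerSeries.coeff_derivative] at h1
      have h2 : ((n : k) + 1) ≠ 0 := by exact_mod_cast Nat.succ_ne_zero n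
      exact (mul_eq_zero.1 h1).resolve_right h2

variable {σ : Type*} [Fintype σ] [DecidableEq σ]

theorem derivative_aeval (ξ : σ → PowerSeries k) (p : MvPolynomial σ k) :
    PowerSeries.derivative k (MvPolynomial.aeval ξ p) =
      ∑ i, MvPolynomial.aeval ξ (MvPolynomial.pderiv i p) * PowerSeries.derivative k (ξ i) := by
  induction p using MvPolynomial.induction_on with
  | C a =>
    rw [← MvPolynomial.algebraMap_eq, AlgHom.commutes]
    simp
  | add p q hp hq =>
    simp only [map_add, hp, hq, add_mul, Finset.sum_add_distrib]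
  | mul_X p j hp =>
    have h1 : ∀ i, MvPolynomial.pderiv i (p * MvPolynomial.X j) =
        MvPolynomial.pderiv i p * MvPolynomial.X j + p * (if i = j then 1 else 0) := by
      intro i
      rw [MvPolynomial.pderiv_mul, MvPolynomial.pderiv_X, Pi.single_apply]
      congr 3
      exact propext eq_comm
    simp only [h1, map_mul, map_add, MvPolynomial.aeval_X, Derivation.leibniz, hp, smul_eq_mul,
      add_mul, Finset.sum_add_distrib, apply_ite (MvPolynomial.aeval ξ), map_zero,
      mul_ite, mul_one, mul_zero, ite_mul, zero_mul, Finset.sum_ite_eq', Finset.mem_univ, if_true,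
      Finset.mul_sum]
    rw [add_comm]
    congr 1
    apply Finset.sum_congr rfl
    intro i _
    ring

/-- A finitely generated algebra over an algebraically closed field has a rational point at which
a given non-unit vanishes. -/
theorem exists_point [IsAlgClosed k] {B : Type*} [CommRing B] [Algebra k B]
    [Algebra.FiniteType k B] (f : B) (hf : ¬ IsUnit f) : ∃ b : B →ₐ[k] k, b f = 0 := by
  obtain ⟨M, hM, hfM⟩ := exists_max_ideal_of_mem_nonunits hf
  let _ : Field (B ⧸ M) := Ideal.Quotient.field M
  have hft : Algebra.FiniteType k (B ⧸ M) :=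
    Algebra.FiniteType.of_surjective (Ideal.Quotient.mkₐ k M) (Ideal.Quotient.mkₐ_surjective k M)
  have hfin : Module.Finite k (B ⧸ M) := finite_of_finite_type_of_isJacobsonRing k (B ⧸ M)
  have hbij := IsAlgClosed.algebraMap_bijective_of_isIntegral (k := k) (K := B ⧸ M)
  let e : k ≃ₐ[k] (B ⧸ M) := AlgEquiv.ofBijective (Algebra.ofId k (B ⧸ M)) hbij
  refine ⟨(e.symm : (B ⧸ M) →ₐ[k] k).comp (Ideal.Quotient.mkₐ k M), ?_⟩
  change e.symm (Ideal.Quotient.mk M f) = 0
  rw [Ideal.Quotient.eq_zero_iff_mem.2 hfM, map_zero]

/-- If `f` is a nonzero non-unit of a domain `B` of finite type which is a polynomial in the `x i`,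
then the partial derivatives of `f` cannot be all divisible by `f` in `B`. -/
theorem isUnit_of_dvd [IsAlgClosed k] [CharZero k] {B : Type*} [CommRing B] [IsDomain B]
    [Algebra k B] [Algebra.FiniteType k B] (x y : σ → B) (f : MvPolynomial σ k)
    (hf : MvPolynomial.aeval x f ≠ 0)
    (hy : ∀ i, MvPolynomial.aeval x (MvPolynomial.pderiv i f) = MvPolynomial.aeval x f * y i) :
    IsUnit (MvPolynomial.aeval x f) := by
  by_contra hu
  obtain ⟨b, hb⟩ := exists_point (k := k) _ hu
  obtain ⟨φ, hφ, hφf⟩ := Arc.exists_arc _ hf b hb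
  apply hφf
  have hx : ∀ p : MvPolynomial σ k, φ (MvPolynomial.aeval x p) =
      MvPolynomial.aeval (fun i => φ (x i)) p := by
    intro p
    have : φ.comp (MvPolynomial.aeval x) = MvPolynomial.aeval (fun i => φ (x i)) := by
      ext i
      simp
    exact DFunLike.congr_fun this p
  apply ps_eq_zero _ (∑ i, φ (y i) * PowerSeries.derivative k (φ (x i)))
  · rw [hφ, hb]
  · rw [hx, derivative_aeval, Finset.mul_sum]
    apply Finset.sum_congr rfl
    intro i _
    rw [← hx, ← hx, hy, map_mul, mul_assoc]

/-- **Algebraic core of the Lojasiewicz gradient inequality.** -/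
theorem exists_polynomial [IsAlgClosed k] [CharZero k] (f : MvPolynomial σ k) (hf : f ≠ 0) :
    ∃ Q : MvPolynomial (σ ⊕ σ) k, ∀ a : σ → k, MvPolynomial.eval a f ≠ 0 →
      MvPolynomial.eval (Sum.elim a (fun i => MvPolynomial.eval a (MvPolynomial.pderiv i f) /
        MvPolynomial.eval a f)) Q * MvPolynomial.eval a f = 1 := by
  let A := Localization.Away f
  have hA : IsDomain A :=
    IsLocalization.isDomain_localization (powers_le_nonZeroDivisors_of_noZeroDivisors hf)
  let x : σ → A := fun i => algebraMap (MvPolynomial σ k) A (MvPolynomial.X i)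
  let y : σ → A := fun i => IsLocalization.mk' A (MvPolynomial.pderiv i f)
    (⟨f, Submonoid.mem_powers f⟩ : Submonoid.powers f)
  have hxe : ∀ p : MvPolynomial σ k, MvPolynomial.aeval x p = algebraMap (MvPolynomial σ k) A p := by
    intro p
    have : MvPolynomial.aeval x = IsScalarTower.toAlgHom k (MvPolynomial σ k) A := by
      ext i
      simp [x]
    exact DFunLike.congr_fun this p
  have hy : ∀ i, MvPolynomial.aeval x (MvPolynomial.pderiv i f) = MvPolynomial.aeval x f * y i := by
    intro i
    rw [hxe, hxe]
    exact (IsLocalization.mk'_spec' A (MvPolynomial.pderiv i f)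
      (⟨f, Submonoid.mem_powers f⟩ : Submonoid.powers f)).symm
  let θ : MvPolynomial (σ ⊕ σ) k →ₐ[k] A := MvPolynomial.aeval (Sum.elim x y)
  let B := θ.range
  have hB : Algebra.FiniteType k B :=
    Algebra.FiniteType.of_surjective θ.rangeRestrict θ.rangeRestrict_surjective
  let xB : σ → B := fun i => ⟨x i, ⟨MvPolynomial.X (Sum.inl i), by simp [θ]⟩⟩
  let yB : σ → B := fun i => ⟨y i, ⟨MvPolynomial.X (Sum.inr i), by simp [θ]⟩⟩
  have hxB : ∀ p : MvPolynomial σ k, ((MvPolynomial.aeval xB p : B) : A) = MvPolynomial.aeval x p := by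
    intro p
    have : (B.val).comp (MvPolynomial.aeval xB) = MvPolynomial.aeval x := by
      ext i
      simp [xB]
    exact DFunLike.congr_fun this p
  have hunit : IsUnit (MvPolynomial.aeval xB f) := by
    apply isUnit_of_dvd xB yB f
    · intro h
      have h1 := congrArg (Subtype.val) h
      rw [hxB, hxe] at h1
      have h2 : Function.Injective (algebraMap (MvPolynomial σ k) A) :=
        IsLocalization.injective A (powers_le_nonZeroDivisors_of_noZeroDivisors hf)
      exact hf (h2 (by rw [map_zero]; exact h1))
    · intro i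
      apply Subtype.ext
      rw [hxB]
      change _ = ((MvPolynomial.aeval xB f : B) : A) * y i
      rw [hxB, hy]
  obtain ⟨⟨w, Q, hQ⟩, hw⟩ := hunit.exists_left_inv
  refine ⟨Q, fun a ha => ?_⟩
  have hw' : w * algebraMap (MvPolynomial σ k) A f = 1 := by
    have := congrArg (Subtype.val) hw
    change w * ((MvPolynomial.aeval xB f : B) : A) = 1 at this
    rwa [hxB, hxe] at this
  -- evaluation at `a`
  let ev0 : MvPolynomial σ k →ₐ[k] k := MvPolynomial.aeval a
  let ev : A →ₐ[k] k := IsLocalization.liftAlgHom (M := Submonoid.powers f) (f := ev0) (by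
    rintro ⟨_, n, rfl⟩
    rw [map_pow]
    exact (isUnit_iff_ne_zero.2 ha).pow n)
  have hev : ∀ p : MvPolynomial σ k, ev (algebraMap (MvPolynomial σ k) A p) =
      MvPolynomial.eval a p := fun p => by
    change IsLocalization.lift _ (algebraMap (MvPolynomial σ k) A p) = _
    rw [IsLocalization.lift_eq]
    rfl
  have hevy : ∀ i, ev (y i) = MvPolynomial.eval a (MvPolynomial.pderiv i f) /
      MvPolynomial.eval a f := by
    intro i
    rw [eq_div_iff ha, ← hev, ← hev, ← map_mul]
    congr 1
    have := hy i
    rw [hxe, hxe] at this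
    rw [this, mul_comm]
  have hevθ : ∀ q : MvPolynomial (σ ⊕ σ) k, ev (θ q) = MvPolynomial.eval (Sum.elim a (fun i =>
      MvPolynomial.eval a (MvPolynomial.pderiv i f) / MvPolynomial.eval a f)) q := by
    intro q
    have : ev.comp θ = MvPolynomial.aeval (Sum.elim a (fun i =>
      MvPolynomial.eval a (MvPolynomial.pderiv i f) / MvPolynomial.eval a f)) := by
      ext i
      rcases i with i | i
      · simp [θ, x, hev]
      · simp [θ, hevy]
    exact DFunLike.congr_fun this q
  rw [← hevθ, ← hev, ← map_mul]
  have hQ' : θ Q = w := hQ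
  rw [hQ', hw', map_one]

end Groth.Agent.An.H893.LojAlg
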