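import Groth.Agent.An.H893.LojAlg
import Mathlib.Analysis.Complex.Polynomial.Basic
import Mathlib.Analysis.SpecialFunctions.Pow.Real
import Mathlib.Topology.Algebra.MvPolynomial

/-!
# The Lojasiewicz gradient inequality for real polynomials
-/

set_option autoImplicit false

namespace Groth.Agent.An.H893.LojIneq

open Filter Topology

variable {σ : Type*} [Fintype σ] [DecidableEq σ]

omit [DecidableEq σ] in
theorem one_le_M (y : σ → ℂ) : 1 ≤ 1 + ∑ i, ‖y i‖ := by
  have : 0 ≤ ∑ i, ‖y i‖ := Finset.sum_nonneg (fun i _ => norm_nonneg _)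
  linarith

omit [DecidableEq σ] in
theorem exists_bound (Q : MvPolynomial (σ ⊕ σ) ℂ) (R : ℝ) (hR : 0 ≤ R) :
    ∃ C : ℝ, 0 ≤ C ∧ ∃ n : ℕ, ∀ x y : σ → ℂ, (∀ i, ‖x i‖ ≤ R) →
      ‖MvPolynomial.eval (Sum.elim x y) Q‖ ≤ C * (1 + ∑ i, ‖y i‖) ^ n := by
  induction Q using MvPolynomial.induction_on with
  | C a =>
    refine ⟨‖a‖, norm_nonneg _, 0, fun x y _ => ?_⟩
    simp
  | add p q hp hq =>
    obtain ⟨C1, hC1, n1, h1⟩ := hp
    obtain ⟨C2, hC2, n2, h2⟩ := hq
    refine ⟨C1 + C2, by positivity, n1 + n2, fun x y hx => ?_⟩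
    have hM := one_le_M y
    have e1 : (1 + ∑ i, ‖y i‖) ^ n1 ≤ (1 + ∑ i, ‖y i‖) ^ (n1 + n2) :=
      pow_le_pow_right₀ hM (by omega)
    have e2 : (1 + ∑ i, ‖y i‖) ^ n2 ≤ (1 + ∑ i, ‖y i‖) ^ (n1 + n2) :=
      pow_le_pow_right₀ hM (by omega)
    rw [map_add, add_mul]
    refine (norm_add_le _ _).trans (add_le_add ((h1 x y hx).trans ?_) ((h2 x y hx).trans ?_))
    · exact mul_le_mul_of_nonneg_left e1 hC1
    · exact mul_le_mul_of_nonneg_left e2 hC2
  | mul_X p j hp =>
    obtain ⟨C1, hC1, n1, h1⟩ := hp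
    rcases j with j | j
    · refine ⟨C1 * R, by positivity, n1, fun x y hx => ?_⟩
      rw [map_mul, MvPolynomial.eval_X, norm_mul, Sum.elim_inl]
      have := mul_le_mul (h1 x y hx) (hx j) (norm_nonneg _)
        (by have := one_le_M y; positivity)
      calc _ ≤ _ := this
        _ = _ := by ring
    · refine ⟨C1, hC1, n1 + 1, fun x y hx => ?_⟩
      rw [map_mul, MvPolynomial.eval_X, norm_mul, Sum.elim_inr]
      have h3 : ‖y j‖ ≤ 1 + ∑ i, ‖y i‖ := by
        have := Finset.single_le_sum (f := fun i => ‖y i‖) (fun i _ => norm_nonneg _)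
          (Finset.mem_univ j)
        linarith
      have := mul_le_mul (h1 x y hx) h3 (norm_nonneg _)
        (by have := one_le_M y; positivity)
      calc _ ≤ _ := this
        _ = _ := by ring

/-- Global form on bounded sets: `|f|^(n-1) ≤ C (|f| + |∇f|)^n`. -/
theorem exists_global (f : MvPolynomial σ ℝ) (R : ℝ) (hR : 0 ≤ R) :
    ∃ C : ℝ, 0 ≤ C ∧ ∃ n : ℕ, ∀ x : σ → ℝ, (∀ i, |x i| ≤ R) →
      |MvPolynomial.eval x f| ^ (n + 1) ≤ C * (|MvPolynomial.eval x f| +
        ∑ i, |MvPolynomial.eval x (MvPolynomial.pderiv i f)|) ^ (n + 2) := by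
  by_cases hf : f = 0
  · refine ⟨0, le_rfl, 0, fun x _ => ?_⟩
    simp [hf]
  have hfC : MvPolynomial.map (algebraMap ℝ ℂ) f ≠ 0 := by
    intro h
    apply hf
    apply MvPolynomial.map_injective (algebraMap ℝ ℂ) (algebraMap ℝ ℂ).injective
    rw [h, map_zero]
  obtain ⟨Q, hQ⟩ := LojAlg.exists_polynomial _ hfC
  obtain ⟨C, hC, n, hb⟩ := exists_bound Q R hR
  refine ⟨C, hC, n, fun x hx => ?_⟩
  have hev : ∀ p : MvPolynomial σ ℝ, MvPolynomial.eval (fun i => (x i : ℂ))
      (MvPolynomial.map (algebraMap ℝ ℂ) p) = ((MvPolynomial.eval x p : ℝ) : ℂ) := by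
    intro p
    have : (MvPolynomial.eval (fun i => (x i : ℂ))).comp (MvPolynomial.map (algebraMap ℝ ℂ)) =
        (algebraMap ℝ ℂ).comp (MvPolynomial.eval x) := by
      apply MvPolynomial.ringHom_ext
      · intro r
        simp
      · intro i
        simp
    exact DFunLike.congr_fun this p
  set F := |MvPolynomial.eval x f| with hF
  set G := ∑ i, |MvPolynomial.eval x (MvPolynomial.pderiv i f)| with hG
  have hG0 : 0 ≤ G := Finset.sum_nonneg (fun i _ => abs_nonneg _)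
  by_cases hfx : MvPolynomial.eval x f = 0
  · have : F = 0 := by rw [hF, hfx, abs_zero]
    rw [this, zero_pow (by omega)]
    positivity
  have hFpos : 0 < F := abs_pos.2 hfx
  have h1 := hQ (fun i => (x i : ℂ)) (by
    rw [hev]
    exact_mod_cast hfx)
  have h2 := hb (fun i => (x i : ℂ)) (fun i =>
    MvPolynomial.eval (fun i => (x i : ℂ)) (MvPolynomial.pderiv i (MvPolynomial.map
      (algebraMap ℝ ℂ) f)) / MvPolynomial.eval (fun i => (x i : ℂ))
      (MvPolynomial.map (algebraMap ℝ ℂ) f)) (fun i => by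
        rw [Complex.norm_real]
        exact hx i)
  have h3 : ∑ i, ‖MvPolynomial.eval (fun i => (x i : ℂ)) (MvPolynomial.pderiv i (MvPolynomial.map
      (algebraMap ℝ ℂ) f)) / MvPolynomial.eval (fun i => (x i : ℂ))
      (MvPolynomial.map (algebraMap ℝ ℂ) f)‖ = G / F := by
    rw [hG, Finset.sum_div]
    apply Finset.sum_congr rfl
    intro i _
    rw [MvPolynomial.pderiv_map, hev, hev, norm_div, Complex.norm_real, Complex.norm_real,
      Real.norm_eq_abs, Real.norm_eq_abs]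
  rw [h3] at h2
  have h4 := congrArg norm h1
  rw [norm_mul, norm_one] at h4
  generalize ‖MvPolynomial.eval (Sum.elim (fun i => (x i : ℂ)) fun i =>
    MvPolynomial.eval (fun i => (x i : ℂ)) (MvPolynomial.pderiv i (MvPolynomial.map
      (algebraMap ℝ ℂ) f)) / MvPolynomial.eval (fun i => (x i : ℂ))
      (MvPolynomial.map (algebraMap ℝ ℂ) f)) Q‖ = q at h2 h4
  rw [hev, Complex.norm_real, Real.norm_eq_abs, ← hF] at h4
  have h5 : 1 ≤ C * (1 + G / F) ^ (n + 2) * F := by
    have h6 : q ≤ C * (1 + G / F) ^ (n + 2) := by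
      refine h2.trans (mul_le_mul_of_nonneg_left ?_ hC)
      apply pow_le_pow_right₀ _ (by omega)
      have : 0 ≤ G / F := by positivity
      linarith
    calc (1 : ℝ) = q * F := h4.symm
      _ ≤ _ := mul_le_mul_of_nonneg_right h6 hFpos.le
  calc F ^ (n + 1) = 1 * F ^ (n + 1) := by rw [one_mul]
    _ ≤ (C * (1 + G / F) ^ (n + 2) * F) * F ^ (n + 1) :=
      mul_le_mul_of_nonneg_right h5 (by positivity)
    _ = C * ((1 + G / F) * F) ^ (n + 2) := by
      rw [mul_pow]
      ring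
    _ = C * (F + G) ^ (n + 2) := by
      congr 2
      field_simp

/-- **Lojasiewicz gradient inequality** for a real polynomial near a zero `a`:
with `h = |f|^(1/(n+2))` one has `h^(n+1) ≤ C * ∑ |∂ᵢ f|` near `a`. -/
theorem exists_local (f : MvPolynomial σ ℝ) (a : σ → ℝ) (ha : MvPolynomial.eval a f = 0) :
    ∃ C : ℝ, 0 < C ∧ ∃ n : ℕ, ∀ᶠ x in 𝓝 a,
      (|MvPolynomial.eval x f| ^ (1 / ((n : ℝ) + 2))) ^ (n + 1) ≤
        C * ∑ i, |MvPolynomial.eval x (MvPolynomial.pderiv i f)| := by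
  obtain ⟨C0, hC0, n, hn⟩ := exists_global f (‖a‖ + 1) (by positivity)
  let c : ℝ := max C0 1
  have hc1 : 1 ≤ c := le_max_right _ _
  refine ⟨2 * c, by positivity, n, ?_⟩
  have hcont : Continuous (fun x : σ → ℝ => |MvPolynomial.eval x f| ^ (1 / ((n : ℝ) + 2))) := by
    have h1 : Continuous (fun x : σ → ℝ => MvPolynomial.eval x f) := MvPolynomial.continuous_eval f
    exact h1.abs.rpow_const (fun x => Or.inr (by positivity))
  have hev1 : ∀ᶠ x in 𝓝 a, |MvPolynomial.eval x f| ^ (1 / ((n : ℝ) + 2)) < 1 / (2 * c) := by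
    have h0 : |MvPolynomial.eval a f| ^ (1 / ((n : ℝ) + 2)) < 1 / (2 * c) := by
      rw [ha, abs_zero, Real.zero_rpow (by positivity)]
      positivity
    exact hcont.continuousAt.eventually_lt continuousAt_const h0
  have hev2 : ∀ᶠ x in 𝓝 a, ‖x - a‖ < 1 := by
    have h1 : Continuous (fun x : σ → ℝ => ‖x - a‖) := by fun_prop
    exact h1.continuousAt.eventually_lt continuousAt_const (by simp)
  filter_upwards [hev1, hev2] with x hx1 hx2
  set F := |MvPolynomial.eval x f| with hF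
  set G := ∑ i, |MvPolynomial.eval x (MvPolynomial.pderiv i f)| with hG
  have hG0 : 0 ≤ G := Finset.sum_nonneg (fun i _ => abs_nonneg _)
  have hF0 : 0 ≤ F := abs_nonneg _
  set h := F ^ (1 / ((n : ℝ) + 2)) with hh
  have hh0 : 0 ≤ h := Real.rpow_nonneg hF0 _
  have hhF : h ^ (n + 2) = F := by
    rw [hh, ← Real.rpow_natCast, ← Real.rpow_mul hF0]
    push_cast
    rw [one_div, inv_mul_cancel₀ (by positivity), Real.rpow_one]
  have hxR : ∀ i, |x i| ≤ ‖a‖ + 1 := by
    intro i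
    have h1 : ‖x i‖ ≤ ‖x‖ := norm_le_pi_norm x i
    have h2 : ‖x‖ ≤ ‖a‖ + ‖x - a‖ := by
      have := norm_add_le a (x - a)
      rwa [add_sub_cancel] at this
    rw [Real.norm_eq_abs] at h1
    linarith
  have h1 := hn x hxR
  rw [← hF, ← hG, ← hhF] at h1
  have h2 : h ^ (n + 1) ≤ c * (h ^ (n + 2) + G) := by
    have h3 : (h ^ (n + 1)) ^ (n + 2) ≤ (c * (h ^ (n + 2) + G)) ^ (n + 2) := by
      calc (h ^ (n + 1)) ^ (n + 2) = (h ^ (n + 2)) ^ (n + 1) := by ring
        _ ≤ C0 * (h ^ (n + 2) + G) ^ (n + 2) := h1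
        _ ≤ c ^ (n + 2) * (h ^ (n + 2) + G) ^ (n + 2) := by
          apply mul_le_mul_of_nonneg_right _ (by positivity)
          calc C0 ≤ c := le_max_left _ _
            _ = c ^ 1 := (pow_one c).symm
            _ ≤ c ^ (n + 2) := pow_le_pow_right₀ hc1 (by omega)
        _ = _ := (mul_pow _ _ _).symm
    exact le_of_pow_le_pow_left₀ (by omega) (by positivity) h3
  have h4 : c * h ^ (n + 2) ≤ h ^ (n + 1) / 2 := by
    have h5 : c * h ≤ 1 / 2 := by
      have : h ≤ 1 / (2 * c) := hx1.le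
      calc c * h ≤ c * (1 / (2 * c)) := mul_le_mul_of_nonneg_left this (by positivity)
        _ = 1 / 2 := by field_simp
    calc c * h ^ (n + 2) = (c * h) * h ^ (n + 1) := by ring
      _ ≤ (1 / 2) * h ^ (n + 1) := mul_le_mul_of_nonneg_right h5 (by positivity)
      _ = _ := by ring
  linarith

end Groth.Agent.An.H893.LojIneq
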