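import Mathlib.RingTheory.PowerSeries.Basic
import Mathlib.RingTheory.PowerSeries.Derivative
import Mathlib.RingTheory.PowerSeries.NoZeroDivisors
import Mathlib.RingTheory.DiscreteValuationRing.Basic

/-!
# Taylor expansion at a rational point of a one-dimensional regular local ring

Let `V` be a `k`-algebra with an augmentation `r : V →ₐ[k] k` whose kernel is generated by a
nonzerodivisor `t`.  We construct the Taylor expansion `V →ₐ[k] k⟦X⟧`.
-/

set_option autoImplicit false

namespace Groth.Agent.An.H893.PSArc

variable {k V : Type*} [Field k] [CommRing V] [IsDomain V] [Algebra k V]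

section
variable (r : V →ₐ[k] k) (t : V) (ht0 : t ≠ 0) (ht : ∀ v, r v = 0 → ∃ w, v = t * w)

include ht in
theorem exists_shift (v : V) : ∃ w, v = algebraMap k V (r v) + t * w := by
  obtain ⟨w, hw⟩ := ht (v - algebraMap k V (r v)) (by simp)
  exact ⟨w, by rw [← hw]; ring⟩

/-- The shift operator `v = r v + t * S v`. -/
noncomputable def S (v : V) : V := (exists_shift r t ht v).choose

theorem S_spec (v : V) : v = algebraMap k V (r v) + t * S r t ht v :=
  (exists_shift r t ht v).choose_spec

include ht0 in
theorem S_unique {v w : V} (h : v = algebraMap k V (r v) + t * w) : S r t ht v = w := by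
  have h1 := S_spec r t ht v
  have h2 : t * S r t ht v = t * w := add_left_cancel (h1.symm.trans h)
  exact mul_left_cancel₀ ht0 h2

include ht0 in
theorem S_add (u v : V) : S r t ht (u + v) = S r t ht u + S r t ht v := by
  apply S_unique r t ht0 ht
  rw [map_add, map_add]
  linear_combination S_spec r t ht u + S_spec r t ht v

include ht0 in
theorem S_algebraMap (c : k) : S r t ht (algebraMap k V c) = 0 := by
  apply S_unique r t ht0 ht
  simp

include ht0 in
theorem S_zero : S r t ht 0 = 0 := by
  simpa using S_algebraMap r t ht0 ht 0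

include ht0 in
theorem S_mul (u v : V) : S r t ht (u * v) =
    algebraMap k V (r u) * S r t ht v + S r t ht u * v := by
  apply S_unique r t ht0 ht
  rw [map_mul, map_mul]
  have hu := S_spec r t ht u
  have hv := S_spec r t ht v
  linear_combination v * hu + algebraMap k V (r u) * hv

include ht0 in
theorem S_t (hrt : r t = 0) : S r t ht t = 1 := by
  apply S_unique r t ht0 ht
  simp [hrt]

/-- The coefficients of the Taylor expansion. -/
noncomputable def co (n : ℕ) (v : V) : k := r ((S r t ht)^[n] v)

theorem co_zero (v : V) : co r t ht 0 v = r v := rfl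

theorem co_succ (n : ℕ) (v : V) : co r t ht (n + 1) v = co r t ht n (S r t ht v) := rfl

include ht0 in
theorem co_add (n : ℕ) (u v : V) : co r t ht n (u + v) = co r t ht n u + co r t ht n v := by
  induction n generalizing u v with
  | zero => simp [co_zero]
  | succ n ih => rw [co_succ, co_succ, co_succ, S_add r t ht0 ht, ih]

include ht0 in
theorem co_zero' (n : ℕ) : co r t ht n 0 = 0 := by
  induction n with
  | zero => simp [co_zero]
  | succ n ih => rw [co_succ, S_zero r t ht0 ht, ih]

include ht0 in
theorem co_algebraMap (n : ℕ) (c : k) : co r t ht n (algebraMap k V c) = if n = 0 then c else 0 := by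
  cases n with
  | zero => simp [co_zero]
  | succ n => rw [co_succ, S_algebraMap r t ht0 ht, co_zero' r t ht0 ht]; simp

include ht0 in
theorem co_smul (n : ℕ) (c : k) (v : V) :
    co r t ht n (algebraMap k V c * v) = c * co r t ht n v := by
  induction n generalizing v with
  | zero => simp [co_zero]
  | succ n ih =>
    have h1 : r (algebraMap k V c) = c := by simp
    rw [co_succ, S_mul r t ht0 ht, S_algebraMap r t ht0 ht, zero_mul, add_zero, h1, ih, co_succ]

include ht0 in
theorem co_mul (n : ℕ) (u v : V) :
    co r t ht n (u * v) = ∑ p ∈ Finset.antidiagonal n, co r t ht p.1 u * co r t ht p.2 v := by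
  induction n generalizing u v with
  | zero => simp [co_zero]
  | succ n ih =>
    rw [co_succ, S_mul r t ht0 ht, co_add r t ht0 ht, co_smul r t ht0 ht, ih,
      Finset.Nat.antidiagonal_succ, Finset.sum_cons, Finset.sum_map]
    simp [co_zero, co_succ]

/-- The Taylor expansion homomorphism. -/
noncomputable def taylor : V →ₐ[k] PowerSeries k where
  toFun v := PowerSeries.mk (fun n => co r t ht n v)
  map_zero' := by
    ext n
    simp [co_zero' r t ht0 ht]
  map_one' := by
    ext n
    rw [PowerSeries.coeff_mk, ← map_one (algebraMap k V), co_algebraMap r t ht0 ht,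
      PowerSeries.coeff_one]
  map_add' u v := by
    ext n
    simp [co_add r t ht0 ht]
  map_mul' u v := by
    ext n
    rw [PowerSeries.coeff_mk, co_mul r t ht0 ht, PowerSeries.coeff_mul]
    simp
  commutes' c := by
    ext n
    rw [PowerSeries.coeff_mk, co_algebraMap r t ht0 ht, PowerSeries.algebraMap_apply,
      PowerSeries.coeff_C]
    simp

theorem constantCoeff_taylor (v : V) :
    PowerSeries.constantCoeff (taylor r t ht0 ht v) = r v := by
  rw [← PowerSeries.coeff_zero_eq_constantCoeff_apply]
  change PowerSeries.coeff 0 (PowerSeries.mk (fun n => co r t ht n v)) = _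
  rw [PowerSeries.coeff_mk, co_zero]

theorem taylor_t (hrt : r t = 0) : taylor r t ht0 ht t = PowerSeries.X := by
  ext n
  change PowerSeries.coeff n (PowerSeries.mk (fun n => co r t ht n t)) = _
  rw [PowerSeries.coeff_mk]
  cases n with
  | zero => simp [co_zero, hrt]
  | succ n =>
    rw [co_succ, S_t r t ht0 ht hrt, ← map_one (algebraMap k V), co_algebraMap r t ht0 ht,
      PowerSeries.coeff_X]
    simp

end

/-- A discrete valuation ring `V` containing the field `k` with residue field `k` embeds
into `k⟦X⟧`. -/
theorem exists_embedding [IsDiscreteValuationRing V] (r : V →ₐ[k] k) :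
    ∃ φ : V →ₐ[k] PowerSeries k, Function.Injective φ ∧
      ∀ v, PowerSeries.constantCoeff (φ v) = r v := by
  obtain ⟨t, ht⟩ := IsDiscreteValuationRing.exists_irreducible V
  have hker : RingHom.ker r = IsLocalRing.maximalIdeal V := by
    apply IsLocalRing.eq_maximalIdeal
    exact RingHom.ker_isMaximal_of_surjective r
      (fun c => ⟨algebraMap k V c, by simp⟩)
  have hrt : r t = 0 := by
    rw [← RingHom.mem_ker, hker]
    exact (IsLocalRing.mem_maximalIdeal t).2 ht.not_isUnit
  have hdiv : ∀ v, r v = 0 → ∃ w, v = t * w := by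
    intro v hv
    rw [← RingHom.mem_ker, hker, ht.maximalIdeal_eq, Ideal.mem_span_singleton] at hv
    exact hv
  refine ⟨taylor r t ht.ne_zero hdiv, ?_, constantCoeff_taylor r t ht.ne_zero hdiv⟩
  rw [injective_iff_map_eq_zero]
  intro v hv
  by_contra hv0
  obtain ⟨n, u, rfl⟩ := IsDiscreteValuationRing.eq_unit_mul_pow_irreducible hv0 ht
  rw [map_mul, map_pow, taylor_t r t ht.ne_zero hdiv hrt] at hv
  have h1 : taylor r t ht.ne_zero hdiv (u : V) ≠ 0 :=
    ((u.isUnit).map (taylor r t ht.ne_zero hdiv)).ne_zero
  exact (mul_ne_zero h1 (pow_ne_zero n PowerSeries.X_ne_zero)) hv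

end Groth.Agent.An.H893.PSArc
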