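import Groth.Agent.An.H893.LojIneq
import Groth.Agent.An.H893.Descent
import Mathlib.Analysis.Analytic.Polynomial
import Mathlib.Analysis.Calculus.ContDiff.RCLike
import Mathlib.Analysis.Calculus.Deriv.MeanValue
import Mathlib.Analysis.Calculus.Deriv.Pow
import Mathlib.Analysis.Calculus.Deriv.Mul
import Mathlib.Analysis.Calculus.Deriv.Add

/-!
# Local retraction onto the zero set of a nonnegative polynomial
-/

set_option autoImplicit false

namespace Groth.Agent.An.H893.PolyRetract

open Filter Topology Set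

variable {σ : Type*} [Fintype σ] [DecidableEq σ]

theorem hasDerivAt_eval (γ : ℝ → σ → ℝ) (γ' : σ → ℝ) (t : ℝ)
    (hγ : ∀ i, HasDerivAt (fun s => γ s i) (γ' i) t) (p : MvPolynomial σ ℝ) :
    HasDerivAt (fun s => MvPolynomial.eval (γ s) p)
      (∑ i, MvPolynomial.eval (γ t) (MvPolynomial.pderiv i p) * γ' i) t := by
  induction p using MvPolynomial.induction_on with
  | C a =>
    simp only [MvPolynomial.eval_C, MvPolynomial.pderiv_C, map_zero, zero_mul,
      Finset.sum_const_zero]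
    exact hasDerivAt_const t a
  | add p q hp hq =>
    simp only [map_add, add_mul, Finset.sum_add_distrib]
    exact hp.add hq
  | mul_X p j hp =>
    have h1 : ∀ i, MvPolynomial.pderiv i (p * MvPolynomial.X j) =
        MvPolynomial.pderiv i p * MvPolynomial.X j + p * (if i = j then 1 else 0) := by
      intro i
      rw [MvPolynomial.pderiv_mul, MvPolynomial.pderiv_X, Pi.single_apply]
      congr 3
      exact propext eq_comm
    simp only [h1, map_mul, map_add, MvPolynomial.eval_X, add_mul, Finset.sum_add_distrib,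
      apply_ite (MvPolynomial.eval (γ t)), map_zero, mul_ite, mul_one, mul_zero,
      ite_mul, zero_mul, Finset.sum_ite_eq', Finset.mem_univ, if_true]
    refine (hp.mul (hγ j)).congr_deriv ?_
    rw [Finset.sum_mul]
    congr 1
    apply Finset.sum_congr rfl
    intro i _
    ring

/-- The gradient. -/
noncomputable def grad (f : MvPolynomial σ ℝ) (x : σ → ℝ) : σ → ℝ :=
  fun i => MvPolynomial.eval x (MvPolynomial.pderiv i f)

omit [Fintype σ] [DecidableEq σ] in
theorem continuous_grad (f : MvPolynomial σ ℝ) : Continuous (grad f) :=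
  continuous_pi fun _ => MvPolynomial.continuous_eval _

omit [DecidableEq σ] in
theorem exists_lipschitz (f : MvPolynomial σ ℝ) (a : σ → ℝ) :
    ∃ L : ℝ, 0 ≤ L ∧ ∃ r : ℝ, 0 < r ∧ ∀ x y : σ → ℝ, dist x a < r → dist y a < r →
      ‖grad f x - grad f y‖ ≤ L * ‖x - y‖ := by
  have h1 : ContDiffAt ℝ 1 (grad f) a := by
    rw [contDiffAt_pi]
    intro i
    exact (AnalyticOnNhd.eval_mvPolynomial (MvPolynomial.pderiv i f) a (mem_univ a)).contDiffAt
  obtain ⟨K, t, ht, hK⟩ := h1.exists_lipschitzOnWith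
  obtain ⟨r, hr, hrt⟩ := Metric.mem_nhds_iff.1 ht
  refine ⟨K, K.2, r, hr, fun x y hx hy => ?_⟩
  have h2 := hK.dist_le_mul x (hrt hx) y (hrt hy)
  rwa [dist_eq_norm, dist_eq_norm] at h2

/-- The sum of squares of the partial derivatives. -/
noncomputable def S2 (f : MvPolynomial σ ℝ) (x : σ → ℝ) : ℝ := ∑ i, grad f x i ^ 2

omit [DecidableEq σ] in
theorem norm_sq_le_S2 (f : MvPolynomial σ ℝ) (x : σ → ℝ) : ‖grad f x‖ ^ 2 ≤ S2 f x := by
  have h0 : 0 ≤ S2 f x := Finset.sum_nonneg (fun i _ => sq_nonneg _)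
  have h1 : ‖grad f x‖ ≤ Real.sqrt (S2 f x) := by
    rw [pi_norm_le_iff_of_nonneg (Real.sqrt_nonneg _)]
    intro i
    apply Real.le_sqrt_of_sq_le
    rw [Real.norm_eq_abs, sq_abs]
    exact Finset.single_le_sum (f := fun i => grad f x i ^ 2) (fun i _ => sq_nonneg _)
      (Finset.mem_univ i)
  calc ‖grad f x‖ ^ 2 ≤ (Real.sqrt (S2 f x)) ^ 2 := pow_le_pow_left₀ (norm_nonneg _) h1 2
    _ = S2 f x := Real.sq_sqrt h0

omit [DecidableEq σ] in
theorem sum_abs_le (v : σ → ℝ) : ∑ i, |v i| ≤ (Fintype.card σ : ℝ) * ‖v‖ := by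
  have : ∑ i, |v i| ≤ ∑ _i : σ, ‖v‖ := Finset.sum_le_sum (fun i _ => norm_le_pi_norm v i)
  rwa [Finset.sum_const, Finset.card_univ, nsmul_eq_mul] at this

/-- One step of the gradient descent. -/
noncomputable def step (f : MvPolynomial σ ℝ) (η : ℝ) (x : σ → ℝ) : σ → ℝ := x - η • grad f x

/-- **Descent lemma**. -/
theorem descent (f : MvPolynomial σ ℝ) (a : σ → ℝ) (L r : ℝ) (hL : 0 ≤ L)
    (hLip : ∀ x y : σ → ℝ, dist x a < r → dist y a < r → ‖grad f x - grad f y‖ ≤ L * ‖x - y‖)
    (η : ℝ) (hη : 0 < η) (hηL : L * η * Fintype.card σ ≤ 1 / 2) (x : σ → ℝ)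
    (hx : ∀ t, 0 ≤ t → t ≤ η → dist (x - t • grad f x) a < r) :
    MvPolynomial.eval (step f η x) f ≤ MvPolynomial.eval x f - η / 2 * S2 f x := by
  have hS0 : 0 ≤ S2 f x := Finset.sum_nonneg (fun i _ => sq_nonneg _)
  let γ : ℝ → σ → ℝ := fun t => x - t • grad f x
  have hγ : ∀ t i, HasDerivAt (fun s => γ s i) (-grad f x i) t := by
    intro t i
    have h1 : HasDerivAt (fun s : ℝ => x i - s * grad f x i) (0 - 1 * grad f x i) t :=
      (hasDerivAt_const t (x i)).sub ((hasDerivAt_id t).mul_const _)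
    rw [zero_sub, one_mul] at h1
    exact h1
  have hψ : ∀ t, HasDerivAt (fun s => MvPolynomial.eval (γ s) f)
      (∑ i, grad f (γ t) i * (-grad f x i)) t := fun t => hasDerivAt_eval γ _ t (hγ t) f
  obtain ⟨t, ⟨ht0, htη⟩, ht⟩ := exists_hasDerivAt_eq_slope (fun s => MvPolynomial.eval (γ s) f)
    (fun t => ∑ i, grad f (γ t) i * (-grad f x i)) hη
    (fun t _ => (hψ t).continuousAt.continuousWithinAt) (fun t _ => hψ t)
  have h0 : γ 0 = x := by simp [γ]
  have h1 : γ η = step f η x := rfl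
  rw [h0, h1, sub_zero, eq_div_iff hη.ne'] at ht
  have hd0 : dist x a < r := by
    have := hx 0 le_rfl hη.le
    rwa [zero_smul, sub_zero] at this
  have hdt : dist (γ t) a < r := hx t ht0.le htη.le
  have hnorm : ‖grad f (γ t) - grad f x‖ ≤ L * η * ‖grad f x‖ := by
    refine (hLip _ _ hdt hd0).trans ?_
    have h2 : ‖γ t - x‖ = t * ‖grad f x‖ := by
      have : γ t - x = -(t • grad f x) := by
        simp only [γ]
        abel
      rw [this, norm_neg, norm_smul, Real.norm_eq_abs, abs_of_pos ht0]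
    rw [h2, mul_assoc]
    apply mul_le_mul_of_nonneg_left _ hL
    exact mul_le_mul_of_nonneg_right htη.le (norm_nonneg _)
  have hsum : ∑ i, grad f (γ t) i * (-grad f x i) ≤ -(1 / 2 * S2 f x) := by
    have e1 : ∑ i, grad f (γ t) i * (-grad f x i) =
        -S2 f x + ∑ i, (grad f (γ t) i - grad f x i) * (-grad f x i) := by
      rw [S2, ← Finset.sum_neg_distrib, ← Finset.sum_add_distrib]
      apply Finset.sum_congr rfl
      intro i _
      ring
    have e2 : ∑ i, (grad f (γ t) i - grad f x i) * (-grad f x i) ≤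
        (L * η * ‖grad f x‖) * ∑ i, |grad f x i| := by
      rw [Finset.mul_sum]
      apply Finset.sum_le_sum
      intro i _
      calc (grad f (γ t) i - grad f x i) * (-grad f x i)
          ≤ |(grad f (γ t) i - grad f x i) * (-grad f x i)| := le_abs_self _
        _ = |grad f (γ t) i - grad f x i| * |grad f x i| := by rw [abs_mul, abs_neg]
        _ ≤ _ := by
          apply mul_le_mul_of_nonneg_right _ (abs_nonneg _)
          exact (norm_le_pi_norm (grad f (γ t) - grad f x) i).trans hnorm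
    have e3 : (L * η * ‖grad f x‖) * ∑ i, |grad f x i| ≤ 1 / 2 * S2 f x := by
      calc (L * η * ‖grad f x‖) * ∑ i, |grad f x i|
          ≤ (L * η * ‖grad f x‖) * ((Fintype.card σ : ℝ) * ‖grad f x‖) :=
            mul_le_mul_of_nonneg_left (sum_abs_le _) (by positivity)
        _ = (L * η * Fintype.card σ) * ‖grad f x‖ ^ 2 := by ring
        _ ≤ 1 / 2 * ‖grad f x‖ ^ 2 := mul_le_mul_of_nonneg_right hηL (by positivity)
        _ ≤ 1 / 2 * S2 f x := mul_le_mul_of_nonneg_left (norm_sq_le_S2 f x) (by norm_num)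
    linarith
  nlinarith [mul_le_mul_of_nonneg_right hsum hη.le]

theorem pow_sub_pow_le (u v : ℝ) (hv : 0 ≤ v) (huv : v ≤ u) (m : ℕ) :
    u ^ (m + 1) - v ^ (m + 1) ≤ (m + 1) * u ^ m * (u - v) := by
  induction m with
  | zero => simp
  | succ m ih =>
    have hu : 0 ≤ u := hv.trans huv
    have h1 : v ^ (m + 1) ≤ u ^ (m + 1) := pow_le_pow_left₀ hv huv _
    have h2 : u ^ (m + 1 + 1) - v ^ (m + 1 + 1) =
        u * (u ^ (m + 1) - v ^ (m + 1)) + v ^ (m + 1) * (u - v) := by ring
    rw [h2]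
    have h3 := mul_le_mul_of_nonneg_left ih hu
    have h4 := mul_le_mul_of_nonneg_right h1 (sub_nonneg.2 huv)
    push_cast
    calc u * (u ^ (m + 1) - v ^ (m + 1)) + v ^ (m + 1) * (u - v)
        ≤ u * ((m + 1) * u ^ m * (u - v)) + u ^ (m + 1) * (u - v) := add_le_add h3 h4
      _ = _ := by ring

theorem exists_data (f : MvPolynomial σ ℝ) (hf : ∀ x, 0 ≤ MvPolynomial.eval x f) (a : σ → ℝ)
    (ha : MvPolynomial.eval a f = 0) :
    ∃ (T : (σ → ℝ) → (σ → ℝ)) (h : (σ → ℝ) → ℝ) (κ R : ℝ), 0 < R ∧ Descent.Data T h κ a R ∧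
      ∀ x, h x = 0 ↔ MvPolynomial.eval x f = 0 := by
  obtain ⟨C, hC, n, hKL⟩ := LojIneq.exists_local f a ha
  obtain ⟨R1, hR1, hKL⟩ := Metric.eventually_nhds_iff.1 hKL
  obtain ⟨L, hL, r, hr, hLip⟩ := exists_lipschitz f a
  set N : ℝ := (Fintype.card σ : ℝ) + 1 with hN
  have hN0 : 0 < N := by positivity
  set M : ℝ := ‖grad f a‖ + L * r + 1 with hM
  have hM0 : 0 < M := by positivity
  have hMb : ∀ x, dist x a < r → ‖grad f x‖ ≤ M := by
    intro x hx
    have h1 := hLip x a hx (by simpa using hr)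
    have h2 : ‖grad f x‖ ≤ ‖grad f a‖ + ‖grad f x - grad f a‖ := by
      have := norm_add_le (grad f a) (grad f x - grad f a)
      rwa [add_sub_cancel] at this
    have h3 : L * ‖x - a‖ ≤ L * r := mul_le_mul_of_nonneg_left (by
      rw [← dist_eq_norm]
      exact hx.le) hL
    linarith
  set η : ℝ := min (1 / (2 * (L + 1) * N)) (r / (2 * M)) with hη
  have hη0 : 0 < η := lt_min (by positivity) (by positivity)
  have hη1 : L * η * Fintype.card σ ≤ 1 / 2 := by
    have h1 : η ≤ 1 / (2 * (L + 1) * N) := min_le_left _ _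
    have h2 : (Fintype.card σ : ℝ) ≤ N := by rw [hN]; linarith
    calc L * η * Fintype.card σ ≤ (L + 1) * η * N := by
          apply mul_le_mul _ h2 (by positivity) (by positivity)
          exact mul_le_mul_of_nonneg_right (by linarith) hη0.le
      _ ≤ (L + 1) * (1 / (2 * (L + 1) * N)) * N := by
          apply mul_le_mul_of_nonneg_right _ hN0.le
          exact mul_le_mul_of_nonneg_left h1 (by positivity)
      _ = 1 / 2 := by
          field_simp
  have hη2 : η * M ≤ r / 2 := by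
    have h1 : η ≤ r / (2 * M) := min_le_right _ _
    calc η * M ≤ (r / (2 * M)) * M := mul_le_mul_of_nonneg_right h1 hM0.le
      _ = r / 2 := by field_simp
  set R : ℝ := min R1 (r / 2) with hR
  have hR0 : 0 < R := lt_min hR1 (by positivity)
  let h : (σ → ℝ) → ℝ := fun x => |MvPolynomial.eval x f| ^ (1 / ((n : ℝ) + 2))
  have hh0 : ∀ x, 0 ≤ h x := fun x => Real.rpow_nonneg (abs_nonneg _) _
  have hhF : ∀ x, h x ^ (n + 2) = MvPolynomial.eval x f := by
    intro x
    have h1 : h x ^ (n + 2) = |MvPolynomial.eval x f| := by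
      simp only [h]
      rw [← Real.rpow_natCast, ← Real.rpow_mul (abs_nonneg _)]
      push_cast
      rw [one_div, inv_mul_cancel₀ (by positivity), Real.rpow_one]
    rw [h1, abs_of_nonneg (hf x)]
  have hh1 : ∀ x, h x = 0 ↔ MvPolynomial.eval x f = 0 := by
    intro x
    rw [← hhF]
    exact (pow_eq_zero_iff (by omega)).symm
  set κ : ℝ := 1 / (2 * ((n : ℝ) + 2) * C * N) with hκ
  have hκ0 : 0 < κ := by positivity
  have hseg : ∀ x, dist x a < R → ∀ t, 0 ≤ t → t ≤ η → dist (x - t • grad f x) a < r := by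
    intro x hx t ht0 ht
    have h1 : dist x a < r / 2 := hx.trans_le (min_le_right _ _)
    have h2 : ‖grad f x‖ ≤ M := hMb x (by linarith)
    have h3 : dist (x - t • grad f x) x ≤ η * M := by
      rw [dist_eq_norm, sub_sub_cancel_left, norm_neg, norm_smul, Real.norm_eq_abs,
        abs_of_nonneg ht0]
      exact mul_le_mul ht h2 (norm_nonneg _) hη0.le
    have h4 := dist_triangle (x - t • grad f x) x a
    linarith
  have hdesc : ∀ x, dist x a < R →
      MvPolynomial.eval (step f η x) f ≤ MvPolynomial.eval x f - η / 2 * S2 f x :=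
    fun x hx => descent f a L r hL hLip η hη0 hη1 x (hseg x hx)
  have hdist : ∀ x, dist x (step f η x) = η * ‖grad f x‖ := by
    intro x
    rw [dist_eq_norm, step, sub_sub_cancel, norm_smul, Real.norm_eq_abs, abs_of_pos hη0]
  have hkl : ∀ x, dist x a < R → h x ^ (n + 1) ≤ C * (N * ‖grad f x‖) := by
    intro x hx
    refine (hKL (hx.trans_le (min_le_left _ _))).trans (mul_le_mul_of_nonneg_left ?_ hC.le)
    refine (sum_abs_le (grad f x)).trans (mul_le_mul_of_nonneg_right ?_ (norm_nonneg _))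
    rw [hN]
    linarith
  have hS20 : ∀ x, 0 ≤ S2 f x := fun x => Finset.sum_nonneg (fun i _ => sq_nonneg _)
  refine ⟨step f η, h, κ, R, hR0, ⟨?_, ?_, hh0, hκ0, (hh1 a).2 ha, ?_, ?_⟩, hh1⟩
  · exact continuous_id.sub ((continuous_grad f).const_smul η)
  · have h1 : Continuous (fun x : σ → ℝ => MvPolynomial.eval x f) := MvPolynomial.continuous_eval f
    exact h1.abs.rpow_const (fun x => Or.inr (by positivity))
  · intro x hx
    rw [hdist]
    have h1 := hdesc x hx
    rw [← hhF, ← hhF x] at h1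
    have hle : h (step f η x) ≤ h x := by
      apply le_of_pow_le_pow_left₀ (n := n + 2) (by omega) (hh0 x)
      have := hS20 x
      nlinarith
    have h2 := pow_sub_pow_le (h x) (h (step f η x)) (hh0 _) hle (n + 1)
    by_cases hx0 : h x = 0
    · have h3 : h (step f η x) = 0 := le_antisymm (hx0 ▸ hle) (hh0 _)
      rw [hx0, h3, zero_pow (by omega)] at h1
      have h4 : S2 f x ≤ 0 := by
        by_contra hc
        push Not at hc
        have : 0 < η / 2 * S2 f x := by positivity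
        linarith
      have h5 : ‖grad f x‖ ^ 2 ≤ 0 := (norm_sq_le_S2 f x).trans h4
      have h6 : ‖grad f x‖ = 0 := by
        have := sq_nonneg ‖grad f x‖
        exact pow_eq_zero_iff (two_ne_zero) |>.1 (le_antisymm h5 this)
      rw [h6, hx0, h3]
      simp
    · have hxpos : 0 < h x := lt_of_le_of_ne (hh0 x) (Ne.symm hx0)
      have hp : 0 < h x ^ (n + 1) := pow_pos hxpos _
      have h3 := hkl x hx
      have h4 := norm_sq_le_S2 f x
      -- η / 2 * ‖v‖^2 ≤ (n+2) * h^(n+1) * (h - h')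
      have h5 : η / 2 * ‖grad f x‖ ^ 2 ≤ ((n : ℝ) + 2) * h x ^ (n + 1) * (h x - h (step f η x)) := by
        have e1 : η / 2 * ‖grad f x‖ ^ 2 ≤ η / 2 * S2 f x :=
          mul_le_mul_of_nonneg_left h4 (by positivity)
        have e2 : (((n + 1 : ℕ) : ℝ) + 1) = (n : ℝ) + 2 := by
          push_cast
          ring
        rw [e2] at h2
        linarith
      have h6 : h x ^ (n + 1) * (κ * (η * ‖grad f x‖)) ≤
          h x ^ (n + 1) * (h x - h (step f η x)) := by
        have e3 : h x ^ (n + 1) * (κ * (η * ‖grad f x‖)) ≤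
            (C * (N * ‖grad f x‖)) * (κ * (η * ‖grad f x‖)) :=
          mul_le_mul_of_nonneg_right h3 (by positivity)
        have e4 : (C * (N * ‖grad f x‖)) * (κ * (η * ‖grad f x‖)) =
            (η / 2 * ‖grad f x‖ ^ 2) / ((n : ℝ) + 2) := by
          rw [hκ]
          field_simp
        have e5 : (η / 2 * ‖grad f x‖ ^ 2) / ((n : ℝ) + 2) ≤
            h x ^ (n + 1) * (h x - h (step f η x)) := by
          rw [div_le_iff₀ (by positivity)]
          calc _ ≤ _ := h5
            _ = _ := by ring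
        linarith
      exact le_of_mul_le_mul_left h6 hp
  · intro x hx hfix
    have h1 : η * ‖grad f x‖ = 0 := by
      rw [← hdist, hfix, dist_self]
    have h2 : ‖grad f x‖ = 0 := (mul_eq_zero.1 h1).resolve_left hη0.ne'
    have h3 := hkl x hx
    rw [h2, mul_zero, mul_zero] at h3
    exact pow_eq_zero_iff (n := n + 1) (by omega) |>.1 (le_antisymm h3 (pow_nonneg (hh0 x) _))

/-- **Local retraction** onto the zero set of a nonnegative polynomial. -/
theorem exists_retraction (f : MvPolynomial σ ℝ) (hf : ∀ x, 0 ≤ MvPolynomial.eval x f) (a : σ → ℝ)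
    (ha : MvPolynomial.eval a f = 0) {V : Set (σ → ℝ)} (hV : V ∈ 𝓝 a) :
    ∃ W ∈ 𝓝 a, ∃ ρ : (σ → ℝ) → (σ → ℝ), ContinuousOn ρ W ∧
      (∀ x ∈ W, ρ x ∈ V ∧ MvPolynomial.eval (ρ x) f = 0) ∧
      ∀ x ∈ W, MvPolynomial.eval x f = 0 → ρ x = x := by
  obtain ⟨T, h, κ, R, hR, D, hh⟩ := exists_data f hf a ha
  obtain ⟨W, hW, ρ, hρ, h1, h2⟩ := Descent.exists_retraction D hV hR
  exact ⟨W, hW, ρ, hρ, fun x hx => ⟨(h1 x hx).1, (hh _).1 (h1 x hx).2⟩,
    fun x hx h0 => h2 x hx ((hh x).2 h0)⟩

end Groth.Agent.An.H893.PolyRetract
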